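import Groth.Agent.DQCoh.PerfCrit
import Groth.Agent.LocFree.Props
import Groth.Agent.LocFree.Summand
import Groth.Agent.CokStage.Stage
import Groth.Agent.RefStalk.Restrict
import Mathlib

/-!
# The locus where all cohomology sheaves of a perfect complex are free
-/

set_option autoImplicit false
set_option backward.isDefEq.respectTransparency false
set_option backward.isDefEq.respectTransparency.types false
set_option linter.style.haveILetI false
set_option linter.unusedSectionVars false

universe u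

open CategoryTheory Category Limits AlgebraicGeometry HomologicalComplex

namespace Groth.Agent.DCohLocus

open Groth.Agent.DQCoh (rC rCComp exists_opens isFinLocFree_of_iso' isFinLocFree_restrict isFinLocFree_of_local)

variable {V W X : Scheme.{u}}

/-- the stalk is finite free -/
def FreeAt (M : X.Modules) (x : X) : Prop :=
  Module.Free (X.presheaf.stalk x) (M.presheaf.stalk x) ∧ Module.Finite (X.presheaf.stalk x) (M.presheaf.stalk x)

lemma freeAt_of_semilinear {R R' M M' : Type u} [CommRing R] [CommRing R'] [AddCommGroup M] [Module R M]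
    [AddCommGroup M'] [Module R' M'] (σ : R ≃+* R') (e : M ≃+ M') (he : ∀ (r : R) (m : M), e (r • m) = σ r • e m)
    (h : Module.Free R M ∧ Module.Finite R M) : Module.Free R' M' ∧ Module.Finite R' M' := by
  letI : RingHomInvPair (σ : R →+* R') (σ.symm : R' →+* R) :=
    ⟨RingHom.ext σ.symm_apply_apply, RingHom.ext σ.apply_symm_apply⟩
  letI : RingHomInvPair (σ.symm : R' →+* R) (σ : R →+* R') :=
    ⟨RingHom.ext σ.apply_symm_apply, RingHom.ext σ.symm_apply_apply⟩
  let e' : M ≃ₛₗ[(σ : R →+* R')] M' := { e with map_smul' := he }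
  haveI := h.1
  haveI := h.2
  haveI : RingHomSurjective (σ : R →+* R') := ⟨σ.surjective⟩
  exact ⟨Module.Free.of_equiv e', Module.Finite.of_surjective e'.toLinearMap e'.surjective⟩

lemma freeAt_restrict_iff (M : X.Modules) (U : X.Opens) (x : U) :
    FreeAt (M.restrict U.ι) x ↔ FreeAt M x.1 := by
  obtain ⟨σ, e, he⟩ := RefStalk.exists_stalk_restrict M U x
  refine ⟨freeAt_of_semilinear σ e he, freeAt_of_semilinear σ.symm e.symm fun r m => e.injective ?_⟩
  rw [he, σ.apply_symm_apply, e.apply_symm_apply, e.apply_symm_apply]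

lemma freeAt_of_iso {M N : X.Modules} (e : M ≅ N) {x : X} (h : FreeAt M x) : FreeAt N x :=
  let e' : M.presheaf.stalk x ≃ₗ[X.presheaf.stalk x] N.presheaf.stalk x := ((DerSch.stalkFunctor X x).mapIso e).toLinearEquiv
  haveI : Module.Finite (X.presheaf.stalk x) (M.presheaf.stalk x) := h.2
  haveI : Module.Free (X.presheaf.stalk x) (M.presheaf.stalk x) := h.1
  ⟨Module.Free.of_equiv e', Module.Finite.equiv e'⟩

lemma freeAt_of_isFinLocFree {M : X.Modules} (h : FlatMod.IsFinLocFree M) (x : X) : FreeAt M x := by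
  refine ⟨LocFree.free_stalk_of_isFinLocFree h x, ?_⟩
  obtain ⟨_, ⟨(U : X.Opens), hU, rfl⟩, hx, -⟩ :=
    X.isBasis_affineOpens.exists_subset_of_mem_open (Set.mem_univ x) isOpen_univ
  haveI := LocFree.finitePresentation_sections h hU
  exact LocFree.finite_stalk hU (LocFree.isQCoh_of_isFinLocFree h) hx

lemma isFinLocFree_free (Y : Scheme.{u}) (n : ℕ) : FlatMod.IsFinLocFree (FlatMod.freeMod Y n) := fun y =>
  ⟨⊤, n, trivial, ⟨(Scheme.Modules.restrictFunctorIsoPullback _).app _ ≪≫ DerPerf.pullFreeIso _ n⟩⟩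

/-- a finitely presented module with free stalk is free nearby -/
theorem exists_free_near (M : X.Modules) (hM : Coh.IsQCoh M) (hfp : CohB1.IsFP M) {x : X} (h : FreeAt M x) :
    ∃ U : X.Opens, x ∈ U ∧ FlatMod.IsFinLocFree (M.restrict U.ι) := by
  obtain ⟨_, ⟨(D : X.Opens), hD, rfl⟩, hx, -⟩ :=
    X.isBasis_affineOpens.exists_subset_of_mem_open (Set.mem_univ x) isOpen_univ
  haveI := LocFree.finitePresentation_sections_of_isFP hM hfp hD
  let z := hD.primeIdealOf ⟨x, hx⟩
  letI := (X.presheaf.germ D x hx).hom.toAlgebra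
  haveI := hD.isLocalization_stalk ⟨x, hx⟩
  obtain ⟨g, hg⟩ := LocFree.exists_stalkMap hD hM hx
  letI := Module.compHom (M.presheaf.stalk x) (X.presheaf.germ D x hx).hom
  haveI : IsScalarTower Γ(X, D) (X.presheaf.stalk x) (M.presheaf.stalk x) :=
    ⟨fun a c m => mul_smul ((X.presheaf.germ D x hx).hom a) c m⟩
  haveI := hg
  haveI : Module.Free (Localization.AtPrime z.asIdeal) (LocalizedModule z.asIdeal.primeCompl Γ(M, D)) :=
    Module.mem_freeLocus.1 ((Module.mem_freeLocus_of_isLocalization z (X.presheaf.stalk x) (M.presheaf.stalk x) g).2 h.1)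
  obtain ⟨r, hr, hfree⟩ := Module.FinitePresentation.exists_free_localizedModule_powers z.asIdeal.primeCompl
    (LocalizedModule.mkLinearMap z.asIdeal.primeCompl Γ(M, D)) (Localization.AtPrime z.asIdeal)
  haveI := hfree.1
  obtain ⟨h1, h2⟩ := LocFree.free_finite_basicOpen hM hD r
  obtain ⟨n, ⟨e⟩⟩ := LocFree.exists_iso_free_of_affine (hM := hM) (hD.basicOpen r)
  refine ⟨X.basicOpen r, ?_, isFinLocFree_of_iso' e.symm (isFinLocFree_free _ n)⟩
  rw [← show hD.fromSpec.base z = x from hD.fromSpec_primeIdealOf ⟨x, hx⟩]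
  have hm : z ∈ hD.fromSpec ⁻¹ᵁ X.basicOpen r := by
    rw [hD.fromSpec_preimage_basicOpen]
    exact hr
  exact hm

/-- kernels of epimorphisms of finite locally free modules -/
theorem isFinLocFree_kernel {M N : X.Modules} (p : M ⟶ N) [Epi p] (hM : FlatMod.IsFinLocFree M)
    (hN : FlatMod.IsFinLocFree N) : FlatMod.IsFinLocFree (kernel p) := by
  refine isFinLocFree_of_local fun x => ?_
  obtain ⟨U, j, hj, u, hu, ψ, hψ⟩ := DQCoh.exists_lift_finLocFree hN p (𝟙 N) x
  haveI := hj
  rw [CategoryTheory.Functor.map_id] at hψ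
  obtain ⟨O, n, huO, ⟨e⟩⟩ := isFinLocFree_restrict j hM u
  let R := Scheme.Modules.restrictFunctor j
  let S := Scheme.Modules.restrictFunctor O.ι
  haveI : Epi (R.map p) := inferInstance
  let l := (PreservesKernel.iso R p)
  let i : S.obj (R.obj (kernel p)) ⟶ FlatMod.freeMod (O : Scheme.{u}) n :=
    S.map (l.hom ≫ kernel.ι (R.map p)) ≫ e.hom
  let r : FlatMod.freeMod (O : Scheme.{u}) n ⟶ S.obj (R.obj (kernel p)) :=
    e.inv ≫ S.map (kernel.lift (R.map p) (𝟙 _ - R.map p ≫ ψ) (by
      rw [Preadditive.sub_comp, id_comp, assoc, hψ, comp_id, sub_self]) ≫ l.inv)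
  refine ⟨(O : Scheme.{u}), O.ι ≫ j, inferInstance, ⟨u, huO⟩, hu, ?_⟩
  refine isFinLocFree_of_iso' ((Scheme.Modules.restrictFunctorComp O.ι j).app (kernel p)).symm
    (LocFree.isFinLocFree_of_retract _ n i r ?_)
  simp only [i, r, assoc, Iso.hom_inv_id_assoc, ← Functor.map_comp]
  refine Eq.trans (congrArg S.map ?_) (S.map_id _)
  have : kernel.ι (R.map p) ≫ kernel.lift (R.map p) (𝟙 _ - R.map p ≫ ψ) (by
      rw [Preadditive.sub_comp, id_comp, assoc, hψ, comp_id, sub_self]) = 𝟙 _ := by
    rw [← cancel_mono (kernel.ι (R.map p)), assoc, kernel.lift_ι, Preadditive.comp_sub, comp_id, ← assoc,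
      kernel.condition, zero_comp, sub_zero, id_comp]
  rw [reassoc_of% this, Iso.hom_inv_id]

/-- cycles of a restriction -/
noncomputable def cyclesRestr (j : W ⟶ V) [IsOpenImmersion j] (C : CochainComplex V.Modules ℤ) (i : ℤ) :
    ((rC j).obj C).cycles i ≅ (Scheme.Modules.restrictFunctor j).obj (C.cycles i) :=
  (C.sc i).mapCyclesIso (Scheme.Modules.restrictFunctor j)

/-- homology of a restriction -/
noncomputable def homologyRestr (j : W ⟶ V) [IsOpenImmersion j] (C : CochainComplex V.Modules ℤ) (i : ℤ) :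
    ((rC j).obj C).homology i ≅ (Scheme.Modules.restrictFunctor j).obj (C.homology i) :=
  (C.sc i).mapHomologyIso (Scheme.Modules.restrictFunctor j)

/-- cycles and cohomology are locally free in degrees `≥ m` -/
def Good (C : CochainComplex V.Modules ℤ) (m : ℤ) : Prop :=
  ∀ i, m ≤ i → FlatMod.IsFinLocFree (C.cycles i) ∧ FlatMod.IsFinLocFree (C.homology i)

lemma Good.restrict {C : CochainComplex V.Modules ℤ} {m : ℤ} (h : Good C m) (j : W ⟶ V) [IsOpenImmersion j] :
    Good ((rC j).obj C) m := fun i hi =>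
  ⟨isFinLocFree_of_iso' (cyclesRestr j C i).symm (isFinLocFree_restrict j (h i hi).1),
    isFinLocFree_of_iso' (homologyRestr j C i).symm (isFinLocFree_restrict j (h i hi).2)⟩

lemma good_step {C : CochainComplex V.Modules ℤ} (hC : ∀ i, FlatMod.IsFinLocFree (C.X i)) {m : ℤ}
    (h : Good C m) (i k : ℤ) (hik : i + 1 = k) (hk : m ≤ k) : FlatMod.IsFinLocFree (C.cycles i) := by
  have hB : FlatMod.IsFinLocFree (kernel (C.homologyπ k)) :=
    isFinLocFree_kernel _ (h k hk).1 (h k hk).2
  let π : C.X i ⟶ kernel (C.homologyπ k) :=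
    kernel.lift _ (C.toCycles i k) (C.toCycles_comp_homologyπ i k)
  let S : ShortComplex V.Modules := ShortComplex.mk (C.toCycles i k) (C.homologyπ k) (C.toCycles_comp_homologyπ i k)
  have hS : S.Exact := S.exact_of_g_is_cokernel (C.homologyIsCokernel i k (by simp [← hik]))
  haveI : Epi π := hS.epi_kernelLift
  let T : ShortComplex V.Modules := ShortComplex.mk (C.iCycles i) π (by
    rw [← cancel_mono (kernel.ι (C.homologyπ k)), zero_comp, assoc, kernel.lift_ι, ← cancel_mono (C.iCycles k),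
      zero_comp, assoc, C.toCycles_i, C.iCycles_d])
  have hT : IsLimit (KernelFork.ofι T.f T.zero) := by
    refine KernelFork.IsLimit.ofι' _ _ fun {A} y hy => ⟨C.liftCycles y k (by simp [← hik]) ?_, C.liftCycles_i _ _ _ _⟩
    rw [← C.toCycles_i i k, ← kernel.lift_ι (C.homologyπ k) (C.toCycles i k) (C.toCycles_comp_homologyπ i k)]
    simp only [← assoc]
    rw [show y ≫ kernel.lift (C.homologyπ k) (C.toCycles i k) (C.toCycles_comp_homologyπ i k) = 0 from hy,
      zero_comp, zero_comp]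
  exact isFinLocFree_of_iso' ((kernelIsKernel π).conePointUniqueUpToIso hT) (isFinLocFree_kernel π (hC i) hB)

/-- the descending induction -/
theorem exists_good {C : CochainComplex V.Modules ℤ} (hC : DCoh.IsStrictlyPerfect C) (x : V)
    (h : ∀ i, FreeAt (C.homology i) x) :
    ∃ U : V.Opens, x ∈ U ∧ ∀ i, FlatMod.IsFinLocFree ((C.homology i).restrict U.ι) := by
  obtain ⟨⟨a, b, hab⟩, hl⟩ := hC
  have hzero : ∀ {W : Scheme.{u}} (D : CochainComplex W.Modules ℤ) (i : ℤ), IsZero (D.X i) →
      IsZero (D.cycles i) ∧ IsZero (D.homology i) := fun D i hi => by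
    have h1 : IsZero (D.cycles i) := IsZero.of_mono (D.iCycles i) hi
    exact ⟨h1, IsZero.of_epi (D.homologyπ i) h1⟩
  have key : ∀ n : ℕ, ∃ U : V.Opens, x ∈ U ∧ Good ((rC U.ι).obj C) (max b a + 1 - n) := by
    intro n
    induction n with
    | zero =>
      refine ⟨⊤, trivial, fun i hi => ?_⟩
      obtain ⟨h1, h2⟩ := hzero ((rC (⊤ : V.Opens).ι).obj C) i
        ((Scheme.Modules.restrictFunctor _).map_isZero (hab i (Or.inr (by omega))))
      exact ⟨DQCoh.isFinLocFree_of_isZero h1, DQCoh.isFinLocFree_of_isZero h2⟩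
    | succ n ih =>
      obtain ⟨U, hx, hU⟩ := ih
      let D := (rC U.ι).obj C
      let k := max b a + 1 - (n : ℤ)
      have hD : ∀ i, FlatMod.IsFinLocFree (D.X i) := fun i => isFinLocFree_restrict U.ι (hl i)
      have hZ : FlatMod.IsFinLocFree (D.cycles (k - 1)) := good_step hD hU (k - 1) k (by omega) le_rfl
      have hq : Coh.IsQCoh (D.homology (k - 1)) :=
        DQCoh.isQCoh_homology_of_X D (fun i => DQCoh.isQCoh_of_isFinLocFree (hD i)) _
      let eH : cokernel (D.toCycles (k - 1 - 1) (k - 1)) ≅ D.homology (k - 1) :=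
        (cokernelIsCokernel _).coconePointUniqueUpToIso (D.homologyIsCokernel (k - 1 - 1) (k - 1) (by simp))
      have hfp : CohB1.IsFP (cokernel (D.toCycles (k - 1 - 1) (k - 1))) :=
        CokStage.isFP_cokernel _ (DQCoh.isQCoh_of_isFinLocFree (hD _)) (DQCoh.isQCoh_of_isFinLocFree hZ)
          (LocFree.isFP_of_isFinLocFree (hD _)) (LocFree.isFP_of_isFinLocFree hZ)
      have hfree : FreeAt (cokernel (D.toCycles (k - 1 - 1) (k - 1))) (⟨x, hx⟩ : U) :=
        freeAt_of_iso (eH ≪≫ homologyRestr U.ι C _).symm ((freeAt_restrict_iff _ U ⟨x, hx⟩).2 (h _))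
      obtain ⟨U', hx', hU'⟩ := exists_free_near _ (QC.isQCoh_of_iso eH.symm hq) hfp hfree
      obtain ⟨κ, hκ, hκj⟩ := exists_opens (U'.ι ≫ U.ι)
      refine ⟨(U'.ι ≫ U.ι).opensRange, ⟨⟨⟨x, hx⟩, hx'⟩, rfl⟩, ?_⟩
      have g1 : Good ((rC U'.ι).obj D) (k - 1) := fun i hi => by
        rcases eq_or_lt_of_le hi with rfl | hi
        · refine ⟨isFinLocFree_of_iso' (cyclesRestr U'.ι D _).symm (isFinLocFree_restrict U'.ι hZ),
            isFinLocFree_of_iso' ((Scheme.Modules.restrictFunctor U'.ι).mapIso eH ≪≫ (homologyRestr U'.ι D _).symm) hU'⟩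
        · exact (hU.restrict U'.ι) i (by omega)
      have g2 := g1.restrict κ
      let e : (rC (U'.ι ≫ U.ι).opensRange.ι).obj C ≅ (rC κ).obj ((rC U'.ι).obj D) :=
        (NatIso.mapHomologicalComplex (Scheme.Modules.restrictFunctorCongr hκj.symm) (ComplexShape.up ℤ)).app C ≪≫
          (rCComp κ (U'.ι ≫ U.ι)).app C ≪≫ (rC κ).mapIso ((rCComp U'.ι U.ι).app C)
      intro i hi
      obtain ⟨h1, h2⟩ := g2 i (by omega)
      exact ⟨isFinLocFree_of_iso' ((HomologicalComplex.cyclesFunctor _ _ i).mapIso e).symm h1,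
        isFinLocFree_of_iso' ((HomologicalComplex.homologyFunctor _ _ i).mapIso e).symm h2⟩
  obtain ⟨U, hx, hU⟩ := key (max b a + 1 - a).toNat
  refine ⟨U, hx, fun i => isFinLocFree_of_iso' (homologyRestr U.ι C i) ?_⟩
  by_cases hi : a ≤ i
  · exact (hU i (by omega)).2
  · exact DQCoh.isFinLocFree_of_isZero (hzero ((rC U.ι).obj C) i
      ((Scheme.Modules.restrictFunctor _).map_isZero (hab i (Or.inl (by omega))))).2

end Groth.Agent.DCohLocus
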